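import Groth.Agent.RedSub.H368.Final
import Groth.Agent.RedSub.H549.ToPin
import Groth.Agent.RedSub.H630.ChevExists
import Groth.Agent.RedSub.H630.ToDual

/-!
# Assembly of the existence theorem

`main`: a reduced root datum is the type of a split reductive group scheme over `ℤ`, from the closure of the
big cell (`X3Stmt`).
-/

set_option autoImplicit false
universe u

open CategoryTheory MonoidalCategory CartesianMonoidalCategory MonObj GrpObj AlgebraicGeometry

namespace Groth.Agent.RedSub.H368.Assembly

open Groth.Agent.Sga3B.Cell Groth.Agent.RedSub.H630.ChevDefs Groth.Agent.Redsub.H632.X3Defs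

/-- The group scheme of a matrix group with torus, root groups and big cell. -/
theorem exists_group_of_matGrp {idx M : Type} [Fintype idx] [AddCommGroup M] [Module.Free ℤ M]
    [Module.Finite ℤ M] {P : RootPairing idx ℤ M (Module.Dual ℤ M)} {b : P.Base}
    (hP : P.toLinearMap = Module.Dual.eval ℤ M) {S : ChevSys.{u} P b} {R A : Type u} [CommRing R]
    [CommRing A] [Algebra R A] [PtGrp R A] (E : MatGrp S R A) (hR : _root_.IsReduced R)
    (h1 : IsDomain A) (h2 : Module.Flat R A) (h3 : Algebra.FinitePresentation R A)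
    (h4 : Algebra.Smooth R (Localization.Away E.d)) :
    ∃ (G : Over (Spec (CommRingCat.of R))) (_ : GrpObj G),
      Red.IsReductive G ∧ Red.IsSplitOfType P G := by
  obtain ⟨E'⟩ := H549.ToPin.nonempty_pinCell E hP h4
  obtain ⟨G, _, hG, hG', -⟩ := Final.exists_group E'
  exact ⟨G, inferInstance, hG, hG'⟩

/-- Output of step X3 over a base ring `R` for a Chevalley system. (With `R` a variable: for `R = ULift ℤ`
written out the notation `Module.Flat (ULift ℤ) A` picks the wrong module structure.) -/
def X3At (R : Type u) [CommRing R] {idx M : Type} [Fintype idx] [AddCommGroup M]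
    [Module.Free ℤ M] [Module.Finite ℤ M] {P : RootPairing idx ℤ M (Module.Dual ℤ M)} {b : P.Base}
    (S : ChevSys.{u} P b) : Prop :=
  ∃ (A : Type u) (_ : CommRing A) (_ : Algebra R A) (_ : PtGrp R A)
    (E : MatGrp S R A), IsDomain A ∧ Module.Flat R A ∧ Algebra.FinitePresentation R A ∧
      Algebra.Smooth R (Localization.Away E.d)

/-- Output of step X3: the Chevalley group of a Chevalley system over `ℤ`. -/
def X3Stmt : Prop :=
  ∀ {idx M : Type} [Fintype idx] [AddCommGroup M] [Module.Free ℤ M] [Module.Finite ℤ M]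
    {P : RootPairing idx ℤ M (Module.Dual ℤ M)} {b : P.Base} [P.IsReduced]
    (_ : P.toLinearMap = Module.Dual.eval ℤ M) (S : ChevSys.{u} P b), X3At (ULift.{u} ℤ) S

theorem main (hX3 : X3Stmt.{u}) {idx M N : Type} [Finite idx] [AddCommGroup M] [AddCommGroup N]
    [Module.Finite ℤ M] [Module.Free ℤ M] (R : RootPairing idx ℤ M N) [R.IsReduced] :
    ∃ (G : Over (Spec (CommRingCat.of (ULift.{u} ℤ)))) (_ : GrpObj G),
      Red.IsReductive G ∧ Red.IsSplitOfType R G := by
  classical
  have := Fintype.ofFinite idx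
  obtain ⟨b⟩ := Sga3B.BaseZ.nonempty_base (H630.ToDual.toDual R)
  obtain ⟨S⟩ := H630.ChevExists.nonempty_chevSys.{u} (H630.ToDual.toDual_toLinearMap R) b
  obtain ⟨A, _, _, _, E, h1, h2, h3, h4⟩ := hX3 (H630.ToDual.toDual_toLinearMap R) S
  have hdom : IsDomain (ULift.{u} ℤ) := (ULift.ringEquiv (R := ℤ)).isDomain
  have hred : _root_.IsReduced (ULift.{u} ℤ) := inferInstance
  obtain ⟨G, _, hG, D, ⟨e⟩⟩ := exists_group_of_matGrp (H630.ToDual.toDual_toLinearMap R) E hred
    h1 h2 h3 h4
  exact ⟨G, inferInstance, hG, D, ⟨(H630.ToDual.equiv R).comp e⟩⟩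

end Groth.Agent.RedSub.H368.Assembly
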