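import Groth.Agent.RedSub.H368.Split
import Groth.Agent.Sga3B.MT.PtHopf

/-!
# The group scheme of a pinned group functor

For `[PtGrp R A]` and `E : PinCell P b R A` the Hopf algebra of the group functor on points is
`Compat`, so that `SpecOver R A` is a reductive group scheme, split of type `P`, with a pinning.
-/

set_option autoImplicit false
universe u

open CategoryTheory MonoidalCategory CartesianMonoidalCategory MonObj GrpObj AlgebraicGeometry
open TensorProduct WithConv

namespace Groth.Agent.RedSub.H368.Final

open Groth.Agent.Sga3B Groth.Agent.Sga3B.Cell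
open Groth.Agent.Books.AffBridge
open Groth.Agent.RedSub.H368.HopfPts
open Groth.Agent.Sga3B.MT.PtHopf (hopf toPt)

theorem compat_hopf (R A : Type u) [CommRing R] [CommRing A] [Algebra R A] [PtGrp R A] :
    letI := hopf R A
    Compat R A := by
  let _ := hopf R A
  intro B _ _ f g
  have h1 := (toPt R A B).map_mul (toConv f.hom) (toConv g.hom)
  exact (congrArg (fun z : Pt R A B => z.hom) h1).symm

/-- **A pinned group functor gives a reductive group scheme, split of type `P`.** -/
theorem exists_group {idx M : Type} [Fintype idx] [AddCommGroup M] [Module.Free ℤ M]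
    [Module.Finite ℤ M] {P : RootPairing idx ℤ M (Module.Dual ℤ M)} {b : P.Base}
    {R A : Type u} [CommRing R] [CommRing A] [Algebra R A] [PtGrp R A] (E : PinCell P b R A) :
    ∃ (G : Over (Spec (CommRingCat.of R))) (_ : GrpObj G),
      Red.IsReductive G ∧ Red.IsSplitOfType P G ∧ ∃ Q : Red.Pinning G,
        Nonempty (RootPairing.Equiv Q.P P) := by
  let _ := hopf R A
  have h : Compat R A := compat_hopf R A
  exact ⟨SpecOver R A, inferInstance, RedSch.isReductive E h, Split.isSplitOfType E h,
    Split.pinning E h, ⟨RootPairing.Equiv.id P⟩⟩

end Groth.Agent.RedSub.H368.Final
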