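import Groth.Agent.Sga3B.CellCI
import Groth.Agent.Sga3B.PinCell
import Groth.Agent.Sga3B.RootOrb

/-!
# Hopf algebras and group structures on points

* `Compat R A`: the Hopf algebra structure of `A` and the group structures on the points
  `Pt R A B` agree; `ptGrpOfHopf`: the group structures on points given by a Hopf algebra.
* `piB h D`: the restriction to the torus of a datum as a bialgebra homomorphism `A → R[M]`.
-/

set_option autoImplicit false
universe u

open TensorProduct WithConv Coalgebra

namespace Groth.Agent.RedSub.H368.HopfPts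

open Groth.Agent.Sga3B Groth.Agent.Sga3B.Cell
open Groth.Agent.Books.DynBasic (mapPt mapPt_apply)
open Groth.Agent.Sga3B.RootOrb (torPt)

/-- The Hopf algebra structure on `A` and the group structures on points agree. -/
def Compat (R A : Type u) [CommRing R] [CommRing A] [HopfAlgebra R A] [PtGrp R A] : Prop :=
  ∀ {B : Type u} [CommRing B] [Algebra R B] (f g : Pt R A B),
    (f * g).hom = (toConv f.hom * toConv g.hom : WithConv (A →ₐ[R] B)).ofConv

section ofHopf

variable (R A : Type u) [CommRing R] [CommRing A] [HopfAlgebra R A]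

/-- points as elements of the convolution group -/
def ptE (B : Type u) [CommRing B] [Algebra R B] : Pt R A B ≃ WithConv (A →ₐ[R] B) where
  toFun f := toConv f.hom
  invFun g := Pt.mk g.ofConv
  left_inv _ := rfl
  right_inv _ := rfl

/-- the group structures on the points of a Hopf algebra -/
@[reducible] noncomputable def ptGrpOfHopf : PtGrp R A where
  grp B _ _ := (ptE R A B).group
  map_mul' {B C} _ _ _ _ φ f g := by
    apply (ptE R A C).injective
    have h1 : ∀ (f g : Pt R A B), ptE R A B ((ptE R A B).symm (ptE R A B f * ptE R A B g)) =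
        ptE R A B f * ptE R A B g := fun f g => (ptE R A B).apply_symm_apply _
    have h2 : ∀ (f g : Pt R A C), ptE R A C ((ptE R A C).symm (ptE R A C f * ptE R A C g)) =
        ptE R A C f * ptE R A C g := fun f g => (ptE R A C).apply_symm_apply _
    have h3 : ∀ f : Pt R A B, ptE R A C (Pt.map φ f) = mapPt φ (ptE R A B f) := fun f => rfl
    change ptE R A C (Pt.map φ ((ptE R A B).symm (ptE R A B f * ptE R A B g))) =
      ptE R A C ((ptE R A C).symm (ptE R A C (Pt.map φ f) * ptE R A C (Pt.map φ g)))
    rw [h3, h1, h2, h3, h3, map_mul]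

theorem compat_ptGrpOfHopf : letI := ptGrpOfHopf R A; Compat R A := by
  let _ := ptGrpOfHopf R A
  intro B _ _ f g
  rfl

end ofHopf

section conv

variable {R A : Type u} [CommRing R] [CommRing A] [HopfAlgebra R A] [PtGrp R A] (h : Compat R A)
include h

/-- the group isomorphism from points to the convolution group -/
def ptConv (B : Type u) [CommRing B] [Algebra R B] : Pt R A B ≃* WithConv (A →ₐ[R] B) :=
  { ptE R A B with map_mul' := fun f g => WithConv.ofConv_injective (h f g) }

variable {B C : Type u} [CommRing B] [Algebra R B] [CommRing C] [Algebra R C]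

lemma ptConv_apply (g : Pt R A B) : ptConv h B g = toConv g.hom := rfl

lemma ptConv_map (φ : B →ₐ[R] C) (g : Pt R A B) :
    ptConv h C (Pt.map φ g) = mapPt φ (ptConv h B g) := rfl

lemma one_hom_apply (a : A) : (1 : Pt R A B).hom a = algebraMap R B (counit (R := R) a) := by
  have h1 := DFunLike.congr_fun (congrArg WithConv.ofConv (map_one (ptConv h B))) a
  refine h1.trans ?_
  exact AlgHom.convOne_apply a

/-- the restriction of functions to the torus, as a homomorphism of bialgebras -/
noncomputable def piB (D : Datum R A) : A →ₐc[R] MonoidAlgebra R (Multiplicative D.M) :=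
  BialgHom.ofAlgHom D.pi
    (by
      refine AlgHom.ext fun a => ?_
      have h1 : Pt.map (Bialgebra.counitAlgHom R (MonoidAlgebra R (Multiplicative D.M)))
          (D.i _ (D.sU (B := R))) = 1 := by
        rw [D.i_nat]
        have h2 : TPt.map (Bialgebra.counitAlgHom R (MonoidAlgebra R (Multiplicative D.M)))
            (D.sU (B := R)) = 1 := by
          apply TPt.ext_ch
          intro m
          rw [TPt.ch_map, Datum.ch_sU, TPt.ch_one]
          simp
        rw [h2, map_one]
      have h3 := congrArg (fun g : Pt R A R => g.hom a) h1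
      refine h3.trans ((one_hom_apply h a).trans ?_)
      rfl)
    (by
      let Q := MonoidAlgebra R (Multiplicative D.M)
      let s1 : TPt D.M (Q ⊗[R] Q) := TPt.map
        (Algebra.TensorProduct.includeLeft : Q →ₐ[R] Q ⊗[R] Q) (D.sU (B := R))
      let s2 : TPt D.M (Q ⊗[R] Q) := TPt.map
        (Algebra.TensorProduct.includeRight : Q →ₐ[R] Q ⊗[R] Q) (D.sU (B := R))
      have h1 : TPt.map (Bialgebra.comulAlgHom R Q) (D.sU (B := R)) = TPt.mulP s1 s2 := by
        apply TPt.ext_ch
        intro m
        rw [TPt.ch_map, TPt.ch_mulP, TPt.ch_map, TPt.ch_map, Datum.ch_sU]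
        refine Eq.trans (MonoidAlgebra.isGroupLikeElem_single_one (R := R)
          (Multiplicative.ofAdd m)).comul_eq_tmul_self ?_
        simp
      have h2 : Pt.map (Bialgebra.comulAlgHom R Q) (D.i _ (D.sU (B := R))) =
          Pt.map (Algebra.TensorProduct.includeLeft : Q →ₐ[R] Q ⊗[R] Q) (D.i _ (D.sU (B := R))) *
          Pt.map (Algebra.TensorProduct.includeRight : Q →ₐ[R] Q ⊗[R] Q)
            (D.i _ (D.sU (B := R))) := by
        rw [D.i_nat, D.i_nat, D.i_nat, h1, D.i_mulP]
      have h3 := congrArg (ptConv h (Q ⊗[R] Q)) h2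
      rw [map_mul] at h3
      have h4 := congrArg WithConv.ofConv h3
      rw [AlgHom.convMul_def] at h4
      refine Eq.trans ?_ h4.symm
      refine AlgHom.ext fun a => ?_
      change TensorProduct.map D.pi.toLinearMap D.pi.toLinearMap (comul a) =
        Algebra.TensorProduct.lmul' R (Algebra.TensorProduct.map
          ((Algebra.TensorProduct.includeLeft : Q →ₐ[R] Q ⊗[R] Q).comp D.pi)
          ((Algebra.TensorProduct.includeRight : Q →ₐ[R] Q ⊗[R] Q).comp D.pi) (comul a))
      induction comul (R := R) a with
      | zero => simp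
      | tmul x y =>
        rw [Algebra.TensorProduct.map_tmul, Algebra.TensorProduct.lmul'_apply_tmul]
        change (D.pi x) ⊗ₜ (D.pi y) = (D.pi x ⊗ₜ (1 : Q)) * ((1 : Q) ⊗ₜ D.pi y)
        rw [Algebra.TensorProduct.tmul_mul_tmul, one_mul, mul_one]
      | add x y hx hy => rw [map_add, map_add, map_add, hx, hy])

lemma piB_apply (D : Datum R A) (a : A) : piB h D a = D.pi a := rfl

lemma piB_surjective (D : Datum R A) : Function.Surjective (piB h D) := D.pi_surjective

lemma torPt_piB (D : Datum R A) (t : TPt D.M B) :
    torPt (piB h D) t = ptConv h B (D.i B t) := by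
  apply WithConv.ofConv_injective
  refine AlgHom.ext fun a => ?_
  exact (D.i_hom_apply t a).symm

end conv

end Groth.Agent.RedSub.H368.HopfPts
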