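import Groth.Agent.RedSub.H638.WeylCover
import Groth.Agent.Sga3B.CellZ
import Mathlib.FieldTheory.IsAlgClosed.Basic

/-!
# Normal subgroups of a pinned group over an algebraically closed field

`E : PinCell P b R A`, `K` an algebraically closed field over `R`.

* `exists_eq_i_of_comm`: a `K`-point commuting with all the torus points is a torus point;
* `normal_eq_bot`: a normal subgroup of the group of `K`-points which contains the limits of its
  curves and no nontrivial torus point is trivial.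
-/

set_option autoImplicit false
set_option linter.unusedSectionVars false
universe u

open Polynomial TensorProduct

namespace Groth.Agent.RedSub.H368.NormalBot

open Groth.Agent.Sga3B Groth.Agent.Sga3B.Cell Groth.Agent.Sga3B.Word
open Groth.Agent.RedSub.H638.WeylBase Groth.Agent.RedSub.H638.WeylCover

variable {idx M : Type} [Fintype idx] [AddCommGroup M] [Module.Free ℤ M]
    [Module.Finite ℤ M] {P : RootPairing idx ℤ M (Module.Dual ℤ M)} {b : P.Base}
    {R A : Type u} [CommRing R] [CommRing A] [Algebra R A] [PtGrp R A] (E : PinCell P b R A)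

/-! ### torus points over an infinite field -/

section torus

variable {K : Type u} [Field K] [Infinite K]

lemma exists_pow_ne_one {n : ℕ} (hn : n ≠ 0) : ∃ z : Kˣ, z ^ n ≠ 1 := by
  by_contra h
  push Not at h
  have h1 : (X * (X ^ n - C 1) : K[X]) = 0 := by
    apply Polynomial.funext
    intro r
    rw [eval_zero, eval_mul, eval_X, eval_sub, eval_pow, eval_X, eval_C]
    by_cases hr : r = 0
    · rw [hr, zero_mul]
    · have h2 := congrArg (fun z : Kˣ => (z : K)) (h (Units.mk0 r hr))
      simp only [Units.val_pow_eq_pow_val, Units.val_mk0, Units.val_one] at h2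
      rw [h2, sub_self, mul_zero]
  rcases mul_eq_zero.1 h1 with h2 | h2
  · exact X_ne_zero h2
  · exact X_pow_sub_C_ne_zero (Nat.pos_of_ne_zero hn) (1 : K) h2

omit [Module.Finite ℤ M] in
/-- the points of a torus over an infinite field separate the characters from `1` -/
lemma exists_ch_ne_one {m : M} (hm : m ≠ 0) : ∃ t : TPt M K, TPt.ch m t ≠ 1 := by
  obtain ⟨lam, hlam⟩ := exists_lam_pos hm
  obtain ⟨z, hz⟩ := exists_pow_ne_one (K := K) (n := (lam m).toNat) (by omega)
  refine ⟨TPt.pw z lam, fun h => hz ?_⟩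
  rw [TPt.ch_pw] at h
  have h1 : z ^ (lam m) = 1 := Units.ext h
  have h2 : z ^ (lam m) = z ^ (lam m).toNat := by
    rw [← zpow_natCast, Int.toNat_of_nonneg hlam.le]
  rwa [h2] at h1

omit [Module.Finite ℤ M] in
lemma eq_of_ch {m n : M} (h : ∀ t : TPt M K, TPt.ch m t = TPt.ch n t) : m = n := by
  by_contra hne
  obtain ⟨t, ht⟩ := exists_ch_ne_one (K := K) (sub_ne_zero.2 hne)
  apply ht
  have h1 : TPt.ch (m - n) t * TPt.ch n t = 1 * TPt.ch n t := by
    rw [← TPt.ch_add, sub_add_cancel, one_mul, h]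
  exact (TPt.isUnit_ch n t).mul_right_cancel h1

end torus

/-! ### limits -/

/-- A subgroup of the group of `K`-points containing the limits of its curves. -/
def LimCl {K : Type u} [Field K] [Algebra R K] (N : Subgroup (Pt R A K)) : Prop :=
  ∀ c : Pt R A K[X], (∀ z : Kˣ, Pt.map (pev R K (z : K)) c ∈ N) →
    Pt.map (pev R K 0) c ∈ N

section cell

variable {B : Type u} [CommRing B] [Algebra R B]

lemma conj_cell' (x : idx → B) (t s : TPt M B) : E.i B s * E.cell x t * (E.i B s)⁻¹ =
    E.cell (fun a => TPt.ch (P.root a) s * x a) t := E.toDatum.conj_cell (allList b) x t s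

lemma i_mul_cell' (x : idx → B) (t s : TPt M B) : E.i B s * E.cell x t =
    E.cell (fun a => TPt.ch (P.root a) s * x a) (s * t) := E.toDatum.i_mul_cell (allList b) x t s

lemma cell_mul_i' (x : idx → B) (t s : TPt M B) : E.cell x t * E.i B s =
    E.cell x (t * s) := E.toDatum.cell_mul_i (allList b) x t s

end cell

section limit

variable {K : Type u} [Field K] [Algebra R K]

lemma i_mem_of_mul_mem {N : Subgroup (Pt R A K)} [N.Normal] (hN : LimCl N) {u : Pt R A K}
    (hu : u ∈ Up E K) {t : TPt M K} (h : u * E.i K t ∈ N) : E.i K t ∈ N := by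
  classical
  obtain ⟨x, rfl⟩ := hu
  obtain ⟨lam, n, hn, hlam⟩ := PinComb.exists_height_functional b
  let y : idx → K := fun a => if b.IsPos a then x a else 0
  have hy : posP E x = posP E y := by
    unfold posP
    congr 1
    apply List.map_congr_left
    intro a ha
    change _ = E.uu a K (if b.IsPos a then x a else 0)
    rw [if_pos ((mem_posList b).mp ha)]
  have hpos : ∀ a, b.IsPos a → 0 < lam (P.root a) := by
    intro a ha
    rw [hlam]
    exact mul_pos hn ((RootPairing.Base.isPos_iff _).1 ha)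
  have hy0 : ∀ a, lam (P.root a) ≤ 0 → y a = 0 := by
    intro a ha
    by_cases h1 : b.IsPos a
    · exact absurd (hpos a h1) (not_lt.2 ha)
    · exact if_neg h1
  have h0 := Datum.eval0_cell (D := E.toDatum) (posList b) (k := fun a => lam (P.root a)) (y := y)
    hy0 t
  have h0' : E.toDatum.i K t = E.i K t := rfl
  rw [← h0', ← h0]
  apply hN
  intro z
  have h2 : Pt.map (pev R K (z : K)) (E.toDatum.cell (posList b)
      (fun a => Polynomial.C (y a) * X ^ (lam (P.root a)).toNat) (TPt.map (Datum.pC R K) t)) =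
      E.i K (TPt.pw z lam) * (posP E y * E.i K t) * (E.i K (TPt.pw z lam))⁻¹ := by
    have h3 := E.toDatum.conj_cell (posList b) y t (TPt.pw z lam)
    refine Eq.trans ?_ h3.symm
    rw [Datum.cell_nat, TPt.map_map, Datum.pev_comp_pC, TPt.map_id]
    congr 1
    funext a
    rw [pev_apply, eval_mul, eval_C, eval_pow, eval_X]
    by_cases ha : b.IsPos a
    · have h4 : TPt.ch (E.toDatum.root a) (TPt.pw z lam) = (z : K) ^ (lam (P.root a)).toNat := by
        rw [TPt.ch_pw]
        change ((z ^ lam (P.root a) : Kˣ) : K) = _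
        conv_lhs => rw [← Int.toNat_of_nonneg (hpos a ha).le]
        rw [zpow_natCast, Units.val_pow_eq_pow_val]
      rw [h4, mul_comm]
    · have h5 : y a = 0 := if_neg ha
      rw [h5, zero_mul, mul_zero]
  rw [h2]
  rw [hy] at h
  exact Subgroup.Normal.conj_mem inferInstance _ h _

/-- If `N` is normal, contains the limits of its curves and no nontrivial torus point, `n` normalises
the torus and `n v ∈ N` with `v` in the Borel subgroup then `n` centralises the torus. -/
lemma comm_of_mul_mem {N : Subgroup (Pt R A K)} [N.Normal] (hN : LimCl N)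
    (hT : ∀ t : TPt M K, E.i K t ∈ N → t = 1) {n v : Pt R A K} (hv : v ∈ Bor E K)
    (h : n * v ∈ N) {τ τ' : TPt M K} (hτ : n⁻¹ * E.i K τ * n = E.i K τ') : τ' = τ := by
  obtain ⟨u, hu, t, rfl⟩ := hv
  have h1 : E.i K t * ((n * (u * E.i K t))⁻¹ *
      (E.i K τ * (n * (u * E.i K t)) * (E.i K τ)⁻¹)) * (E.i K t)⁻¹ ∈ N :=
    Subgroup.Normal.conj_mem inferInstance _
      (mul_mem (inv_mem h) (Subgroup.Normal.conj_mem inferInstance _ h _)) _
  have h2 : E.i K t * (E.i K τ)⁻¹ * (E.i K t)⁻¹ = (E.i K τ)⁻¹ := by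
    rw [← i_inv, i_conj_i]
  have h3 : E.i K t * ((n * (u * E.i K t))⁻¹ *
      (E.i K τ * (n * (u * E.i K t)) * (E.i K τ)⁻¹)) * (E.i K t)⁻¹ =
      (u⁻¹ * (E.i K τ' * u * (E.i K τ')⁻¹)) * E.i K (τ' * τ⁻¹) := by
    calc E.i K t * ((n * (u * E.i K t))⁻¹ *
      (E.i K τ * (n * (u * E.i K t)) * (E.i K τ)⁻¹)) * (E.i K t)⁻¹
        = u⁻¹ * (n⁻¹ * E.i K τ * n) * u * (E.i K t * (E.i K τ)⁻¹ * (E.i K t)⁻¹) := by group
      _ = u⁻¹ * E.i K τ' * u * (E.i K τ)⁻¹ := by rw [hτ, h2]
      _ = (u⁻¹ * (E.i K τ' * u * (E.i K τ')⁻¹)) * (E.i K τ' * (E.i K τ)⁻¹) := by group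
      _ = _ := by rw [map_mul, i_inv]
  rw [h3] at h1
  have h4 := hT _ (i_mem_of_mul_mem E hN (mul_mem (inv_mem hu) (conj_i_mem_Up E τ' hu)) h1)
  exact mul_inv_eq_one.1 h4

end limit

/-! ### points centralising the torus -/

section cent

variable {K : Type u} [Field K] [IsAlgClosed K] [Algebra R K]

/-- over an algebraically closed field every point is a quotient of two points of the cell. -/
theorem exists_mul_cell (g : Pt R A K) :
    ∃ (x : idx → K) (t : TPt M K) (x' : idx → K) (t' : TPt M K), g * E.cell x t = E.cell x' t' := by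
  have hfp := E.fp
  have hdom : IsDomain (K ⊗[R] A) := E.domain K
  let D := K ⊗[R] A
  -- the generic point
  let γ : Pt R A D := Pt.mk Algebra.TensorProduct.includeRight
  let gD : Pt R A D := Pt.map ((Algebra.TensorProduct.includeLeft : K →ₐ[K] D).restrictScalars R) g
  -- points of `D` as points of `A`
  let pt : Pt R A K → (D →ₐ[K] K) := fun h => Algebra.TensorProduct.lift (AlgHom.id K K)
    h.hom (fun _ _ => Commute.all _ _)
  have hpt : ∀ h, Pt.map ((pt h).restrictScalars R) γ = h := by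
    intro h
    apply Pt.ext
    intro a
    change Algebra.TensorProduct.lift (AlgHom.id K K) h.hom (fun _ _ => Commute.all _ _)
      ((1 : K) ⊗ₜ[R] a) = _
    erw [Algebra.TensorProduct.lift_tmul]
    rw [map_one, one_mul]
  have hptg : ∀ s : D →ₐ[K] K, Pt.map (s.restrictScalars R) gD = g := by
    intro s
    apply Pt.ext
    intro a
    change s ((g.hom a) ⊗ₜ (1 : A)) = _
    have : (g.hom a) ⊗ₜ[R] (1 : A) = algebraMap K D (g.hom a) := rfl
    rw [this, AlgHom.commutes]
    rfl
  -- both ideals are nonzero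
  have hone : E.cellIdeal.map (1 : Pt R A K).hom.toRingHom = ⊤ := by
    rw [← E.mem_cell_iff]
    refine ⟨fun _ => 0, 1, ?_⟩
    have := E.toDatum.cell_zero (B := K) (allList b) 1
    rw [map_one] at this
    exact this.symm
  have key : ∀ (u : Pt R A D) (s : D →ₐ[K] K), Pt.map (s.restrictScalars R) u = 1 →
      ∃ f ∈ E.cellIdeal.map u.hom.toRingHom, f ≠ 0 := by
    intro u s hs
    have hne : E.cellIdeal.map u.hom.toRingHom ≠ ⊥ := by
      intro h0
      have h1 : (E.cellIdeal.map u.hom.toRingHom).map (s : D →+* K) = ⊤ := by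
        rw [Ideal.map_map, ← hone, ← hs]
        rfl
      rw [h0, Ideal.map_bot] at h1
      exact bot_ne_top h1
    exact Submodule.exists_mem_ne_zero_of_ne_bot hne
  obtain ⟨f₁, hf₁, hf₁0⟩ := key γ (pt 1) (hpt 1)
  obtain ⟨f₂, hf₂, hf₂0⟩ := key (gD * γ) (pt g⁻¹) (by
    rw [Pt.map_mul, hpt, hptg, mul_inv_cancel])
  have hnil : ¬ IsNilpotent (f₁ * f₂) := by
    rw [isNilpotent_iff_eq_zero]
    exact mul_ne_zero hf₁0 hf₂0
  obtain ⟨s, hs⟩ := exists_point_ne_zero K hnil
  rw [map_mul] at hs
  have hcell : ∀ (u : Pt R A D) (f : D), f ∈ E.cellIdeal.map u.hom.toRingHom → s f ≠ 0 →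
      ∃ (x : idx → K) (t : TPt M K), Pt.map (s.restrictScalars R) u = E.cell x t := by
    intro u f hf hsf
    change ∃ (x : idx → K) (t : TPt M K), Pt.map (s.restrictScalars R) u =
          ((allList b).map (fun a => E.uu a K (x a))).prod * E.i K t
    rw [E.mem_cell_iff]
    have h1 : s f ∈ E.cellIdeal.map (Pt.map (s.restrictScalars R) u).hom.toRingHom := by
      have : E.cellIdeal.map (Pt.map (s.restrictScalars R) u).hom.toRingHom =
          (E.cellIdeal.map u.hom.toRingHom).map (s : D →+* K) := by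
        rw [Ideal.map_map]
        rfl
      rw [this]
      exact Ideal.mem_map_of_mem _ hf
    exact Ideal.eq_top_of_isUnit_mem _ h1 (IsUnit.mk0 _ hsf)
  obtain ⟨x, t, h1⟩ := hcell γ f₁ hf₁ (left_ne_zero_of_mul hs)
  obtain ⟨x', t', h2⟩ := hcell (gD * γ) f₂ hf₂ (right_ne_zero_of_mul hs)
  refine ⟨x, t, x', t', ?_⟩
  rw [← h1, ← h2, Pt.map_mul, hptg]

/-- a point of the cell commuting with the torus is a torus point -/
lemma eq_i_of_cell {x : idx → K} {t : TPt M K}
    (h : ∀ s : TPt M K, E.i K s * E.cell x t * (E.i K s)⁻¹ = E.cell x t) : x = 0 := by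
  have hK : Infinite K := IsAlgClosed.instInfinite
  funext a
  obtain ⟨s, hs⟩ := exists_ch_ne_one (K := K) (P.ne_zero a)
  have h1 := h s
  rw [conj_cell'] at h1
  have h2 := congrFun (E.cell_injective h1).1 a
  change TPt.ch (P.root a) s * x a = x a at h2
  have h3 : (TPt.ch (P.root a) s - 1) * x a = 0 := by rw [sub_mul, h2, one_mul, sub_self]
  rcases mul_eq_zero.1 h3 with h4 | h4
  · exact absurd (sub_eq_zero.1 h4) hs
  · exact h4

/-- A product of the `n_a` which centralises the torus is a torus point. -/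
lemma nw_eq_i {l : List idx} (hl : ∀ a ∈ l, a ∈ b.support)
    (h : ∀ τ : TPt M K, (nw E K l)⁻¹ * E.i K τ * nw E K l = E.i K τ) :
    ∃ t : TPt M K, nw E K l = E.i K t := by
  have hK : Infinite K := IsAlgClosed.instInfinite
  set n := nw E K l with hn
  have hcomm : ∀ τ : TPt M K, E.i K τ * n = n * E.i K τ := by
    intro τ
    have h0 := h τ
    calc E.i K τ * n = n * (n⁻¹ * E.i K τ * n) := by group
      _ = n * E.i K τ := by rw [h0]
  -- `w = 1` on the roots
  have hw : ∀ c, wp P l c = c := by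
    intro c
    obtain ⟨r, hr⟩ := conj_nw E hl c
    have hr' : ∀ x : K, n * E.uu c K x * n⁻¹ = E.uu (wp P l c) K (algebraMap R K r * x) :=
      fun x => hr x
    apply P.root.injective
    apply eq_of_ch (K := K)
    intro τ
    have h1 : E.i K τ * (n * E.uu c K 1 * n⁻¹) * (E.i K τ)⁻¹ =
        n * (E.i K τ * E.uu c K 1 * (E.i K τ)⁻¹) * n⁻¹ := by
      have h2 : n⁻¹ * (E.i K τ)⁻¹ = (E.i K τ)⁻¹ * n⁻¹ := by
        rw [← mul_inv_rev, ← mul_inv_rev, hcomm]
      calc E.i K τ * (n * E.uu c K 1 * n⁻¹) * (E.i K τ)⁻¹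
          = (E.i K τ * n) * E.uu c K 1 * (n⁻¹ * (E.i K τ)⁻¹) := by group
        _ = (n * E.i K τ) * E.uu c K 1 * ((E.i K τ)⁻¹ * n⁻¹) := by rw [hcomm, h2]
        _ = _ := by group
    rw [E.rel, hr', hr', E.rel] at h1
    have h3 := E.uu_inj _ h1
    have hru : IsUnit (algebraMap R K (r : R)) := (Units.isUnit r).map (algebraMap R K)
    rw [mul_one, mul_one] at h3
    rw [mul_comm (algebraMap R K (r : R))] at h3
    exact hru.mul_right_cancel h3
  -- `n` normalises `U⁻`
  have hUm : ∀ v ∈ Um E K, n * v * n⁻¹ ∈ Um E K := by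
    have h1 : Um E K ≤ (Um E K).comap (MulAut.conj n).toMonoidHom := by
      apply Um_le
      intro c hc x
      rw [Subgroup.mem_comap]
      obtain ⟨r, hr⟩ := conj_nw E hl c
      have h2 : (MulAut.conj n).toMonoidHom (E.uu c K x) = n * E.uu c K x * n⁻¹ := rfl
      rw [h2, hr, hw]
      exact uu_mem_Um E hc _
    intro v hv
    exact h1 hv
  obtain ⟨x, t, x', t', hx⟩ := exists_mul_cell E n
  obtain ⟨v, hv, c, hc, h1⟩ := (inCell_iff_mul E).1 ⟨x, t, rfl⟩
  obtain ⟨v', hv', c', hc', h2⟩ := (inCell_iff_mul E).1 ⟨x', t', rfl⟩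
  have h3 : n = ((n * v * n⁻¹)⁻¹ * v') * (c' * c⁻¹) := by
    rw [h1, h2] at hx
    have h4 : (n * v * n⁻¹) * n * c = v' * c' := by
      rw [← hx]; group
    calc n = (n * v * n⁻¹)⁻¹ * ((n * v * n⁻¹) * n * c) * c⁻¹ := by group
      _ = (n * v * n⁻¹)⁻¹ * (v' * c') * c⁻¹ := by rw [h4]
      _ = _ := by group
  obtain ⟨y, s, hys⟩ := (inCell_iff_mul E (g := n)).2
    ⟨_, mul_mem (inv_mem (hUm v hv)) hv', _, mul_mem hc' (inv_mem hc), h3⟩
  have hy : y = 0 := eq_i_of_cell E (x := y) (t := s) (by
    intro τ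
    rw [← hys, hcomm]; group)
  refine ⟨s, ?_⟩
  rw [hys, hy]
  exact E.toDatum.cell_zero (allList b) s

/-- **The torus is its own centraliser**, on points over an algebraically closed field. -/
theorem exists_eq_i_of_comm {g : Pt R A K} (h : ∀ τ : TPt M K, g * E.i K τ = E.i K τ * g) :
    ∃ t : TPt M K, g = E.i K t := by
  obtain ⟨l, hl, x, t, rfl⟩ := exists_translate E g
  have key : ∀ τ : TPt M K, (nw E K l)⁻¹ * E.i K τ * nw E K l = E.i K τ ∧
      E.i K τ * E.cell x t * (E.i K τ)⁻¹ = E.cell x t := by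
    intro τ
    obtain ⟨τ', hτ'⟩ := conj_nw_inv_i (B := K) E hl τ
    have h1 : E.i K τ' * E.cell x t * (E.i K τ)⁻¹ = E.cell x t := by
      rw [← hτ']
      have h2 := h τ
      calc (nw E K l)⁻¹ * E.i K τ * nw E K l * E.cell x t * (E.i K τ)⁻¹
          = (nw E K l)⁻¹ * (E.i K τ * (nw E K l * E.cell x t)) * (E.i K τ)⁻¹ := by group
        _ = (nw E K l)⁻¹ * (nw E K l * E.cell x t * E.i K τ) * (E.i K τ)⁻¹ := by rw [h2]
        _ = _ := by group
    have h3 : E.i K τ' * E.cell x t * (E.i K τ)⁻¹ =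
        E.cell (fun a => TPt.ch (P.root a) τ' * x a) ((τ' * t) * τ⁻¹) := by
      rw [i_mul_cell', ← i_inv, cell_mul_i']
    rw [h3] at h1
    have h4 := (E.cell_injective h1).2
    have h5 : τ' = τ := by
      have h7 : τ' * t = t * τ' := mul_comm τ' t
      have h8 : t * τ' * τ⁻¹ = t * (τ' * τ⁻¹) := mul_assoc t τ' τ⁻¹
      rw [h7, h8] at h4
      have h6 : τ' * τ⁻¹ = 1 := TPt.mul_left_cancel' (h4.trans (TPt.mul_one' t).symm)
      exact mul_inv_eq_one.1 h6
    rw [h5] at hτ'
    refine ⟨hτ', ?_⟩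
    have h8 := (E.cell_injective h1).1
    rw [h5] at h8
    rw [conj_cell', h8]
  obtain ⟨s, hs⟩ := nw_eq_i E hl (fun τ => (key τ).1)
  have hx : x = 0 := eq_i_of_cell E (fun τ => (key τ).2)
  refine ⟨s * t, ?_⟩
  rw [hs, hx, map_mul]
  congr 1
  exact E.toDatum.cell_zero (allList b) t

end cent

/-! ### the longest element -/

/-- there is a word mapping all the positive roots to negative roots -/
lemma exists_longest (b : P.Base) : ∃ l : List idx, (∀ a ∈ l, a ∈ b.support) ∧
    ∀ c, b.IsPos c → ¬ b.IsPos ((wp P l).symm c) := by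
  classical
  -- a word with the largest number of inversions
  obtain ⟨l, hl, hmax⟩ : ∃ l : List idx, (∀ a ∈ l, a ∈ b.support) ∧
      ∀ l' : List idx, (∀ a ∈ l', a ∈ b.support) → (inver b l').card ≤ (inver b l).card := by
    by_contra hcon
    push Not at hcon
    have key : ∀ n : ℕ, ∃ l : List idx, (∀ a ∈ l, a ∈ b.support) ∧ n ≤ (inver b l).card := by
      intro n
      induction n with
      | zero => exact ⟨[], by simp, Nat.zero_le _⟩
      | succ n ih =>
        obtain ⟨l, hl, hn⟩ := ih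
        obtain ⟨l', hl', h⟩ := hcon l hl
        exact ⟨l', hl', by omega⟩
    obtain ⟨l, -, h⟩ := key (Fintype.card idx + 1)
    have h1 : (inver b l).card ≤ Fintype.card idx := Finset.card_le_univ _
    omega
  refine ⟨l, hl, ?_⟩
  have hsimple : ∀ a ∈ b.support, ¬ b.IsPos ((wp P l).symm a) := by
    intro a ha hpos
    have h1 : wp P (a :: a :: l) = wp P l := by
      rw [wp_cons, wp_cons, ← mul_assoc]
      have h2 : P.reflectionPerm a * P.reflectionPerm a = 1 := by
        ext c
        exact refl_refl a c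
      rw [h2, one_mul]
    have h2 : (inver b (a :: a :: l)).card < (inver b (a :: l)).card := by
      apply card_inver_lt ha
      rw [wp_cons_symm, wp_symm_neg, isPos_neg_iff, not_not]
      exact hpos
    have h3 : inver b (a :: a :: l) = inver b l := by
      ext c
      rw [mem_inver, mem_inver, h1]
    rw [h3] at h2
    have h4 := hmax (a :: l) (by
      intro c hc
      rcases List.mem_cons.1 hc with rfl | hc
      · exact ha
      · exact hl c hc)
    omega
  intro c hc
  have hroot : ∀ (l : List idx), ∃ w : M →ₗ[ℤ] M, ∀ c, P.root ((wp P l).symm c) = w (P.root c) := by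
    intro l
    induction l with
    | nil => exact ⟨LinearMap.id, fun c => rfl⟩
    | cons a l ih =>
      obtain ⟨w, hw⟩ := ih
      refine ⟨w.comp (P.reflection a).toLinearMap, fun c => ?_⟩
      rw [wp_cons_symm, hw, P.root_reflectionPerm]
      rfl
  obtain ⟨w, hw⟩ := hroot l
  obtain ⟨lam, n, hn, hlam⟩ := PinComb.exists_height_functional b
  obtain ⟨f, hf0, hf1, hf2⟩ := b.exists_root_eq_sum_int c
  have hfpos : 0 < f := by
    refine hf1.resolve_right fun h => ?_
    rw [RootPairing.Base.isPos_iff, RootPairing.Base.height_eq_sum hf2] at hc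
    exact absurd hc (not_lt.mpr (Finset.sum_nonpos fun j _ => h.le j))
  have h1 : lam (P.root ((wp P l).symm c)) = ∑ j ∈ b.support, f j * lam (P.root ((wp P l).symm j)) := by
    rw [hw, hf2, map_sum, map_sum]
    refine Finset.sum_congr rfl fun j hj => ?_
    rw [map_zsmul, map_zsmul, ← hw, smul_eq_mul]
  have h2 : lam (P.root ((wp P l).symm c)) ≤ 0 := by
    rw [h1]
    apply Finset.sum_nonpos
    intro j hj
    refine mul_nonpos_of_nonneg_of_nonpos (hfpos.le j) ?_
    rw [hlam]
    refine mul_nonpos_of_nonneg_of_nonpos hn.le ?_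
    have h3 := hsimple j hj
    rw [RootPairing.Base.isPos_iff, not_lt] at h3
    exact h3
  intro hpos
  rw [RootPairing.Base.isPos_iff] at hpos
  rw [hlam] at h2
  exact absurd (mul_pos hn hpos) (not_lt.2 h2)

/-! ### the main theorem -/

section main

variable {K : Type u} [Field K] [IsAlgClosed K] [Algebra R K]

lemma Up_inf_Um {g : Pt R A K} (h1 : g ∈ Up E K) (h2 : g ∈ Um E K) : g = 1 := by
  classical
  obtain ⟨x, rfl⟩ := h1
  obtain ⟨y, hy⟩ := h2
  have h3 : E.cell (fun a => if b.IsPos a then x a else 0) 1 =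
      E.cell (fun a => if b.IsPos a then 0 else y a) 1 := by
    rw [cell_eq_mul, cell_eq_mul]
    have e1 : negP E (fun a => if b.IsPos a then x a else 0) = 1 := by
      rw [← negP_zero E]
      unfold negP
      congr 1
      apply List.map_congr_left
      intro a ha
      change E.uu a K (if b.IsPos a then x a else 0) = E.uu a K 0
      rw [if_neg ((mem_negList b).mp ha)]
    have e2 : posP E (fun a => if b.IsPos a then x a else 0) = posP E x := by
      unfold posP
      congr 1
      apply List.map_congr_left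
      intro a ha
      change E.uu a K (if b.IsPos a then x a else 0) = E.uu a K (x a)
      rw [if_pos ((mem_posList b).mp ha)]
    have e3 : negP E (fun a => if b.IsPos a then 0 else y a) = negP E y := by
      unfold negP
      congr 1
      apply List.map_congr_left
      intro a ha
      change E.uu a K (if b.IsPos a then 0 else y a) = E.uu a K (y a)
      rw [if_neg ((mem_negList b).mp ha)]
    have e4 : posP E (fun a => if b.IsPos a then 0 else y a) = 1 := by
      rw [← posP_zero E]
      unfold posP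
      congr 1
      apply List.map_congr_left
      intro a ha
      change E.uu a K (if b.IsPos a then 0 else y a) = E.uu a K 0
      rw [if_pos ((mem_posList b).mp ha)]
    rw [e1, e2, e3, e4, one_mul, mul_one, hy]
  have h4 := (E.cell_injective h3).1
  have h5 : ∀ a ∈ posList b, x a = 0 := by
    intro a ha
    have h6 := congrFun h4 a
    simpa [(mem_posList b).mp ha] using h6
  unfold posP
  apply List.prod_eq_one
  intro z hz
  obtain ⟨a, ha, rfl⟩ := List.mem_map.mp hz
  rw [h5 a ha, E.uu_zero]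

/-- **A normal subgroup of the group of points over an algebraically closed field which contains the
limits of its curves and no nontrivial torus point is trivial.** -/
theorem normal_eq_bot {N : Subgroup (Pt R A K)} [N.Normal] (hN : LimCl N)
    (hT : ∀ t : TPt M K, E.i K t ∈ N → t = 1) : N = ⊥ := by
  -- `N` is contained in `U⁺`
  have hUp : N ≤ Up E K := by
    intro g hg
    obtain ⟨l, hl, c₁, hc₁, c₂, hc₂, rfl⟩ := bruhat E g
    have h1 : nw E K l * (c₂ * c₁) ∈ N := by
      have h2 : nw E K l * (c₂ * c₁) = c₁⁻¹ * (c₁ * nw E K l * c₂) * c₁⁻¹⁻¹ := by group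
      rw [h2]
      exact Subgroup.Normal.conj_mem inferInstance _ hg _
    obtain ⟨s, hs⟩ := nw_eq_i E hl (by
      intro τ
      obtain ⟨τ', hτ'⟩ := conj_nw_inv_i (B := K) E hl τ
      rw [hτ', comm_of_mul_mem E hN hT (mul_mem hc₂ hc₁) h1 hτ'])
    have hbor : c₁ * nw E K l * c₂ ∈ Bor E K :=
      mul_mem (mul_mem hc₁ (hs ▸ i_mem_Bor E s)) hc₂
    obtain ⟨u, hu, t, h3⟩ := hbor
    rw [h3] at hg ⊢
    have h4 := hT t (i_mem_of_mul_mem E hN hu hg)
    rw [h4, map_one, mul_one]
    exact hu
  obtain ⟨l, hl, hlong⟩ := exists_longest b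
  rw [eq_bot_iff]
  intro g hg
  rw [Subgroup.mem_bot]
  -- `n⁻¹ g n ∈ U⁺ ∩ U⁻`
  have h1 : Up E K ≤ (Um E K).comap (MulAut.conj (nw E K l)⁻¹).toMonoidHom := by
    apply Up_le
    intro c hc x
    rw [Subgroup.mem_comap]
    obtain ⟨r, hr⟩ := conj_nw_inv E hl c
    have h2 : (MulAut.conj (nw E K l)⁻¹).toMonoidHom (E.uu c K x) =
        (nw E K l)⁻¹ * E.uu c K x * nw E K l := by simp
    rw [h2, hr]
    exact uu_mem_Um E (hlong c hc) _
  have h2 : (nw E K l)⁻¹ * g * nw E K l ∈ Um E K := by
    have h3 := h1 (hUp hg)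
    rw [Subgroup.mem_comap] at h3
    simpa using h3
  have h3 : (nw E K l)⁻¹ * g * nw E K l ∈ Up E K := by
    apply hUp
    have h4 : (nw E K l)⁻¹ * g * nw E K l = (nw E K l)⁻¹ * g * (nw E K l)⁻¹⁻¹ := by group
    rw [h4]
    exact Subgroup.Normal.conj_mem inferInstance _ hg _
  have h4 := Up_inf_Um E h3 h2
  calc g = nw E K l * ((nw E K l)⁻¹ * g * nw E K l) * (nw E K l)⁻¹ := by group
    _ = 1 := by rw [h4]; group

end main

end Groth.Agent.RedSub.H368.NormalBot
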