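import Groth.Agent.Sga3B.CellEt
import Groth.Agent.Sga3B.DictRank884
import Groth.Agent.Sga3B.PinCover

/-!
# The dimension of the geometric fibres of a group with an open cell

* `rankOK_of_etale`: if the cell ring is étale over `A`, the tangent space at the unit section has
  dimension `card idx + rank M`;
* `ringKrullDim_tensor`: the dimension of `K ⊗ A`;
* `rankOK`: a pinned group satisfies `RankOK`.
-/

set_option autoImplicit false
universe u

open TensorProduct MvPolynomial

namespace Groth.Agent.RedSub.H368.Rank

open Groth.Agent.Sga3B Groth.Agent.Sga3B.Cell Groth.Agent.Sga3B.Cell.Datum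

section datum

variable {R A : Type u} [CommRing R] [CommRing A] [Algebra R A] [PtGrp R A] (D : Datum R A)

/-- The rank of the cotangent space at the unit section from a formally étale cell. -/
theorem rankOK_of_etale (ψ : A →ₐ[R] D.CR)
    (het : letI : Algebra A D.CR := (ψ : A →+* D.CR).toAlgebra; Algebra.FormallyEtale A D.CR)
    (h1 : ∀ f, D.ev0 (ψ f) = (1 : Pt R A R).hom f) : D.RankOK := by
  intro K _ _ _ _ _ hK
  let _ : Algebra A D.CR := (ψ : A →+* D.CR).toAlgebra
  have hfe : Algebra.FormallyEtale A D.CR := het
  have hT : IsScalarTower R A D.CR := .of_algebraMap_eq fun r => (ψ.commutes r).symm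
  let e : D.CR →ₐ[R] K := (Algebra.ofId R K).comp D.ev0
  let _ : Algebra D.CR K := (e : D.CR →+* K).toAlgebra
  have hT1 : IsScalarTower R D.CR K := .of_algebraMap_eq fun r => (e.commutes r).symm
  have hT2 : IsScalarTower A D.CR K := .of_algebraMap_eq fun f => by
    rw [hK f]
    change _ = algebraMap R K (D.ev0 (ψ f))
    rw [h1]
    have h2 : Pt.map (Algebra.ofId R K) (1 : Pt R A R) = 1 := Pt.map_one _
    exact (congrArg (fun g : Pt R A K => g.hom f) h2).symm
  have e1 := KaehlerDifferential.tensorKaehlerEquivOfFormallyEtale R A D.CR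
  have e2 := (TensorProduct.AlgebraTensorModule.cancelBaseChange A D.CR K K Ω[A⁄R]).symm
  have e3 := TensorProduct.AlgebraTensorModule.congr (LinearEquiv.refl K K) e1
  obtain ⟨hfree, hrk⟩ := D.omega_CR
  have hR : Nontrivial R := (algebraMap R K).domain_nontrivial
  rw [e2.finrank_eq, e3.finrank_eq, Module.finrank_baseChange, hrk hR]

/-- the dimension of the geometric fibres -/
theorem ringKrullDim_tensor [Algebra.Smooth R A] (hD : D.RankOK) (K : Type u) [Field K]
    [IsAlgClosed K] [Algebra R K] [IsDomain (K ⊗[R] A)] :
    ringKrullDim (K ⊗[R] A) = ((Fintype.card D.idx + Module.finrank ℤ D.M : ℕ) : WithBot ℕ∞) := by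
  have hft : Algebra.FiniteType R A := inferInstance
  obtain ⟨N, -, hN⟩ := Groth.Agent.Ega4B.DimFT.exists_dim K (K ⊗[R] A)
  have h1 := DictRank884.finrank_aux' K (1 : Pt R A K).hom N hN
  let _ : Algebra A K := (((1 : Pt R A K).hom : A →ₐ[R] K) : A →+* K).toAlgebra
  have hT : IsScalarTower R A K := .of_algHom (1 : Pt R A K).hom
  rw [hD K (fun f => rfl)] at h1
  rw [hN, h1]

end datum

section pin

variable {idx M : Type} [Fintype idx] [AddCommGroup M] [Module.Free ℤ M]
    [Module.Finite ℤ M] {P : RootPairing idx ℤ M (Module.Dual ℤ M)} {b : P.Base}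
    {R A : Type u} [CommRing R] [CommRing A] [Algebra R A] [PtGrp R A] (E : PinCell P b R A)

/-- A pinned group has the expected tangent dimension at the unit section. -/
theorem rankOK : E.toDatum.RankOK := by
  apply rankOK_of_etale E.toDatum (PinCover.phi E)
  · have h1 := PinCover.etale_phi E
    exact h1.formallyEtale
  · intro f
    have h1 := E.toDatum.ev_phi (allList b) (fun _ => (0 : R)) 1 f
    rw [Datum.cell_zero, map_one] at h1
    exact h1

include E in
/-- **The dimension of the geometric fibres of a pinned group.** -/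
theorem ringKrullDim_pin (K : Type u) [Field K] [IsAlgClosed K] [Algebra R K] :
    ringKrullDim (K ⊗[R] A) = ((Module.finrank ℤ M + Fintype.card idx : ℕ) : WithBot ℕ∞) := by
  have h1 := E.smooth
  have h2 := E.domain K
  have h3 := ringKrullDim_tensor E.toDatum (rankOK E) K
  rw [h3, add_comm]
  rfl

end pin

end Groth.Agent.RedSub.H368.Rank
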