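import Groth.Agent.RedSub.H368.NormalBot
import Groth.Agent.RedSub.H368.HopfPts
import Groth.Agent.Sga3B.Spread144C
import Groth.Agent.Sga3B.RG.UnipRep

/-!
# The geometric fibres of a pinned group are reductive, in terms of points

For `E : PinCell P b R A` and an algebraically closed field `K` over `R` the group of points of
`K ⊗ A` has no nontrivial closed normal subgroup consisting of unipotent elements (`isRedPt`).
-/

set_option autoImplicit false
set_option linter.unusedSectionVars false
universe u

open Polynomial TensorProduct WithConv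

namespace Groth.Agent.RedSub.H368.RedPt

open Groth.Agent.Sga3B Groth.Agent.Sga3B.Cell Groth.Agent.Sga3B.RG
open Groth.Agent.Sga3B.RootOrb Groth.Agent.Sga3B.Spread144
open Groth.Agent.RedSub.H368.HopfPts Groth.Agent.RedSub.H368.NormalBot
open Groth.Agent.Books.DynBasic (mapPt mapPt_apply)

/-- eigenvectors of right translations -/
lemma pow_apply_eigen {K : Type u} [Field K] {A : Type u} [CommRing A] [HopfAlgebra K A]
    {g : RG.Pt K A} {μ : K} {a : A} (h : rTr g a = μ • a) (k : ℕ) :
    (((rTr g).toLinearMap - 1) ^ k) a = (μ - 1) ^ k • a := by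
  induction k with
  | zero => simp
  | succ k ih =>
    rw [pow_succ', Module.End.mul_apply, ih, map_smul, LinearMap.sub_apply,
      AlgHom.toLinearMap_apply, h, Module.End.one_apply, smul_sub, smul_smul, pow_succ, mul_sub,
      mul_one, sub_smul]

/-- the value of a group-like element at a unipotent point -/
lemma groupLike_of_isUnip {K : Type u} [Field K] {A : Type u} [CommRing A] [HopfAlgebra K A]
    {g : RG.Pt K A} (hg : IsUnip g) {χ : A} (hχ : IsGroupLikeElem K χ) : g χ = 1 := by
  obtain ⟨n, hn⟩ := hg χ
  have h0 : rTr g χ = (g χ) • χ := by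
    rw [rTr, AlgHom.comp_apply, AlgHom.comp_apply, Bialgebra.comulAlgHom_apply,
      hχ.comul_eq_tmul_self]
    simp
  rw [pow_apply_eigen h0] at hn
  have hχ0 : χ ≠ 0 := by
    intro h0
    have h2 := hχ.counit_eq_one
    rw [h0, map_zero] at h2
    exact zero_ne_one h2
  rcases smul_eq_zero.1 hn with h2 | h2
  · by_cases hn0 : n = 0
    · rw [hn0, pow_zero] at h2
      exact absurd h2 one_ne_zero
    · exact sub_eq_zero.1 ((pow_eq_zero_iff hn0).1 h2)
  · exact absurd h2 hχ0

/-- unipotent points of a closed torus are trivial -/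
lemma torPt_unip {K : Type u} [Field K] {A : Type u} [CommRing A] [HopfAlgebra K A]
    {M : Type} [AddCommGroup M] {p : A →ₐc[K] MonoidAlgebra K (Multiplicative M)}
    (hp : Function.Surjective p) {t : Multiplicative M →* Kˣ}
    (hu : IsUnip (torPt (C := K) p t : RG.Pt K A)) : t = 1 := by
  have h1 : IsUnip (toConv (evT K t) : RG.Pt K (MonoidAlgebra K (Multiplicative M))) :=
    isUnip_of_map hp (g := toConv (evT K t)) hu
  apply MonoidHom.ext
  intro m
  apply Units.ext
  have h2 := groupLike_of_isUnip h1 (MonoidAlgebra.isGroupLikeElem_single_one m)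
  have h3 : evT K t (MonoidAlgebra.single m 1) = 1 := h2
  rw [evT_single, one_smul] at h3
  exact h3

section points

variable {R A : Type u} [CommRing R] [CommRing A] [HopfAlgebra R A] [PtGrp R A] (h : Compat R A)
  (K : Type u) [Field K] [Algebra R K]

/-- points of `K ⊗ A` with values in `K` are points of `A` with values in `K` -/
noncomputable def resE : RG.Pt K (K ⊗[R] A) ≃* Cell.Pt R A K :=
  (MulEquiv.ofBijective (resPt R A K K) ⟨resPt_injective, by
    intro g
    refine ⟨toConv (Algebra.TensorProduct.lift (Algebra.ofId K K) g.ofConv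
      (fun _ _ => .all _ _)), ?_⟩
    apply WithConv.ofConv_injective
    apply AlgHom.ext
    intro a
    change Algebra.TensorProduct.lift (Algebra.ofId K K) g.ofConv (fun _ _ => .all _ _)
      (1 ⊗ₜ a) = _
    rw [Algebra.TensorProduct.lift_tmul, map_one, _root_.one_mul]⟩).trans (ptConv h K).symm

variable {K}

lemma resE_hom (g : RG.Pt K (K ⊗[R] A)) (a : A) : (resE h K g).hom a = g (1 ⊗ₜ a) := rfl

lemma resE_symm_apply (g : Cell.Pt R A K) (k : K) (a : A) :
    ((resE h K).symm g) (k ⊗ₜ a) = k * g.hom a := by
  obtain ⟨g, rfl⟩ := (resE h K).surjective g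
  rw [MulEquiv.symm_apply_apply, resE_hom]
  have h1 : (k ⊗ₜ[R] a : K ⊗[R] A) = k • ((1 : K) ⊗ₜ a) := by
    rw [TensorProduct.smul_tmul', smul_eq_mul, mul_one]
  rw [h1]
  exact map_smul g.ofConv k _

/-- torus points -/
lemma resE_torPt (D : Datum R A) (t : TPt D.M K) :
    resE h K (torPt (pK (piB h D) K) t) = D.i K t := by
  have h1 := resPt_torPt (K := K) (C := K) (piB h D) t
  rw [torPt_piB] at h1
  exact (congrArg (ptConv h K).symm h1).trans ((ptConv h K).symm_apply_apply _)

/-- the base change of the restriction to the torus is surjective -/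
lemma pK_surjective {M : Type} [AddCommGroup M] {p : A →ₐc[R] MonoidAlgebra R (Multiplicative M)}
    (hp : Function.Surjective p) : Function.Surjective (pK p K) := by
  intro x
  induction x using MonoidAlgebra.induction_linear with
  | zero => exact ⟨0, map_zero _⟩
  | add x y hx hy =>
    obtain ⟨a, rfl⟩ := hx
    obtain ⟨b, rfl⟩ := hy
    exact ⟨a + b, map_add _ _ _⟩
  | single m r =>
    obtain ⟨a, ha⟩ := hp (MonoidAlgebra.single m 1)
    refine ⟨r ⊗ₜ a, ?_⟩
    rw [pK_tmul, ha, Groth.Agent.Sga3A.BCIso.scalarBialg_tmul_single]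
    simp

end points

section main

variable {idx M : Type} [Fintype idx] [AddCommGroup M] [Module.Free ℤ M]
    [Module.Finite ℤ M] {P : RootPairing idx ℤ M (Module.Dual ℤ M)} {b : P.Base}
    {R A : Type u} [CommRing R] [CommRing A] [HopfAlgebra R A] [PtGrp R A] (E : PinCell P b R A)
    (h : Compat R A) (K : Type u) [Field K] [IsAlgClosed K] [Algebra R K]

include h in
/-- a closed subgroup contains the limits of its curves -/
lemma limCl_of_isCl {N : Subgroup (RG.Pt K (K ⊗[R] A))} (hN : IsCl (N : Set (RG.Pt K (K ⊗[R] A)))) :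
    LimCl (N.comap (resE h K).symm.toMonoidHom) := by
  have hK : Infinite K := IsAlgClosed.instInfinite
  intro c hc
  rw [Subgroup.mem_comap]
  apply hN
  intro f hf
  -- the curve as a curve in `K ⊗ A`
  let cB : K ⊗[R] A →ₐ[K] K[X] := Algebra.TensorProduct.lift (Algebra.ofId K K[X]) c.hom
    (fun _ _ => .all _ _)
  have key : ∀ (z : K) (f : K ⊗[R] A), ((resE h K).symm (Cell.Pt.map (pev R K z) c)) f =
      (cB f).eval z := by
    intro z f
    induction f using TensorProduct.induction_on with
    | zero =>
      rw [map_zero cB, eval_zero]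
      exact map_zero ((resE h K).symm (Cell.Pt.map (pev R K z) c)).ofConv
    | tmul k a =>
      rw [resE_symm_apply]
      change k * pev R K z (c.hom a) = (Algebra.TensorProduct.lift (Algebra.ofId K K[X]) c.hom
        (fun _ _ => .all _ _) (k ⊗ₜ a)).eval z
      rw [Algebra.TensorProduct.lift_tmul, pev_apply, eval_mul]
      congr 1
      change k = (Polynomial.C k).eval z
      rw [eval_C]
    | add x y hx hy =>
      rw [map_add cB, eval_add, ← hx, ← hy]
      exact map_add ((resE h K).symm (Cell.Pt.map (pev R K z) c)).ofConv x y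
  change ((resE h K).symm (Cell.Pt.map (pev R K 0) c)) f = 0
  rw [key]
  have h0 : X * cB f = 0 := by
    apply Polynomial.funext
    intro z
    rw [eval_mul, eval_X, eval_zero]
    by_cases hz : z = 0
    · rw [hz, zero_mul]
    · rw [← key z f]
      have h1 := hc (Units.mk0 z hz)
      rw [Subgroup.mem_comap] at h1
      have h2 : ((resE h K).symm (Cell.Pt.map (pev R K z) c)) f = 0 := hf _ h1
      rw [h2, mul_zero]
  rcases mul_eq_zero.1 h0 with h1 | h1
  · exact absurd h1 X_ne_zero
  · rw [h1, eval_zero]

include E h in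
/-- **The geometric fibres of a pinned group have no nontrivial closed normal unipotent
subgroups.** -/
theorem eq_bot_of_isCl {N : Subgroup (RG.Pt K (K ⊗[R] A))} (hN : N.Normal)
    (hcl : IsCl (N : Set (RG.Pt K (K ⊗[R] A)))) (hu : ∀ g ∈ N, IsUnip g) : N = ⊥ := by
  have h1 := normal_eq_bot E (K := K) (N := N.comap (resE h K).symm.toMonoidHom)
    (limCl_of_isCl h K hcl) (by
      intro t ht
      rw [Subgroup.mem_comap] at ht
      have h2 := hu _ ht
      have h3 : (resE h K).symm.toMonoidHom (E.i K t) = torPt (pK (piB h E.toDatum) K) t := by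
        have h4 := resE_torPt h (K := K) E.toDatum t
        exact ((resE h K).symm_apply_eq).2 h4.symm
      rw [h3] at h2
      exact torPt_unip (pK_surjective (K := K) (piB_surjective h E.toDatum)) h2)
  rw [eq_bot_iff]
  intro g hg
  have h2 : resE h K g ∈ N.comap (resE h K).symm.toMonoidHom := by
    rw [Subgroup.mem_comap]
    change (resE h K).symm (resE h K g) ∈ N
    rwa [MulEquiv.symm_apply_apply]
  rw [h1, Subgroup.mem_bot] at h2
  rw [Subgroup.mem_bot]
  exact (resE h K).injective (h2.trans (map_one _).symm)

include E h in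
/-- **The geometric fibres of a pinned group are reductive**, in terms of points. -/
theorem isRedPt : IsRedPt K (K ⊗[R] A) := fun _ hN hcl _ hu => eq_bot_of_isCl E h K hN hcl hu

end main

end Groth.Agent.RedSub.H368.RedPt
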