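import Groth.Agent.RedSub.H368.RedPt
import Groth.Agent.Sga3B.RG.BrRed2
import Groth.Agent.Sga3B.RG.BrMax
import Groth.Agent.Sga3B.BcTor144
import Groth.Agent.Sga3B.Trans894

/-!
# A pinned group is reductive and its torus is maximal

For `E : PinCell P b R A`, `A` a Hopf algebra compatible with the group structure on points:
* `isReductive`: `Spec A` is reductive over `Spec R`;
* `torHom`: the torus `D_S(M) ⟶ Spec A`; `isMaximalTorus`: it is a maximal torus.
-/

set_option autoImplicit false
set_option linter.unusedSectionVars false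
universe u

open CategoryTheory MonoidalCategory CartesianMonoidalCategory MonObj GrpObj AlgebraicGeometry Limits
open TensorProduct WithConv

namespace Groth.Agent.RedSub.H368.RedSch

open Groth.Agent.Sga3B Groth.Agent.Sga3B.Cell
open Groth.Agent.Sga3B.RootOrb Groth.Agent.Sga3B.Spread144 Groth.Agent.Sga3B.AffPts
open Groth.Agent.Sga3B.BcSpec144 Groth.Agent.Sga3B.BcTor144 Groth.Agent.Sga3B.DSAff
open Groth.Agent.RedSub.H368.HopfPts Groth.Agent.RedSub.H368.NormalBot
open Groth.Agent.RedSub.H368.RedPt
open Groth.Agent.Books.AffBridge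

/-! ### geometric points of `Spec R` -/

/-- A geometric point of `Spec R` is given by an algebra structure. -/
theorem exists_algebra_geomPt {R : Type u} [CommRing R] (s : Spec (CommRingCat.of R)) :
    ∃ (_ : Algebra R (AlgebraicClosure ((Spec (CommRingCat.of R)).residueField s))),
      Red.geomPt s = fK R (AlgebraicClosure ((Spec (CommRingCat.of R)).residueField s)) :=
  ⟨(Spec.preimage (Red.geomPt s)).hom.toAlgebra, (Spec.map_preimage (Red.geomPt s)).symm⟩

section tor

variable {R : Type u} [CommRing R] {A : Type u} [CommRing A] [HopfAlgebra R A]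
  {M : Type} [AddCommGroup M] (p : A →ₐc[R] MonoidAlgebra R (Multiplicative M))

/-- the homomorphism `D_S(M) ⟶ Spec A` given by `p : A → R[M]`. -/
noncomputable def torHom : Red.DS (Spec (CommRingCat.of R)) M ⟶ SpecOver R A :=
  dsTo R M ≫ specMap R (p : A →ₐ[R] MonoidAlgebra R (Multiplicative M))

instance : IsMonHom (torHom p) := by
  have h1 : IsMonHom (specMap R (p : A →ₐ[R] MonoidAlgebra R (Multiplicative M))) :=
    isMonHom_specMap R p
  exact inferInstanceAs (IsMonHom (dsTo R M ≫ specMap R _))

/-- the torus on points -/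
lemma comp_torHom {X : Over (Spec (CommRingCat.of R))}
    (t : X ⟶ Red.DS (Spec (CommRingCat.of R)) M) :
    t ≫ torHom p = affPt X ((chAlg (fnChar t)).comp (p : A →ₐ[R] _)) := by
  rw [torHom, ← Category.assoc, comp_dsTo, affPt_specMap]

/-- the shape of hypothesis needed for `SplitAssemble` -/
lemma torHom_hp (X : Over (Spec (CommRingCat.of R)))
    (t : X ⟶ Red.DS (Spec (CommRingCat.of R)) M) :
    t ≫ torHom p ≫ (Iso.refl (SpecOver R A)).hom = affPt X ((chAlg (fnChar
      (t ≫ (Iso.refl (Grp.mk (Red.DS (Spec (CommRingCat.of R)) M))).hom.hom.hom))).comp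
        (p : A →ₐ[R] _)) := by
  rw [Iso.refl_hom, Category.comp_id, comp_torHom]
  congr 3

/-- a surjection `A → R[M]` gives a closed immersion -/
lemma isClosedImmersion_torHom (hp : Function.Surjective p) : IsClosedImmersion (torHom p).left := by
  have h1 : IsClosedImmersion (specMap R (p : A →ₐ[R] MonoidAlgebra R (Multiplicative M))).left :=
    IsClosedImmersion.spec_of_surjective _ hp
  have h2 : IsIso (dsTo R M).left := inferInstanceAs (IsIso ((Over.forget _).map (dsTo R M)))
  rw [torHom, Over.comp_left]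
  infer_instance

lemma mono_torHom (hp : Function.Surjective p) : Mono (torHom p) := by
  have h1 := isClosedImmersion_torHom p hp
  have h2 : Mono (torHom p).left := inferInstance
  exact Over.mono_of_mono_left _

end tor

/-! ### the geometric fibres -/

section fib

variable {R : Type u} [CommRing R] {A : Type u} [CommRing A] [HopfAlgebra R A]
  {M : Type} [AddCommGroup M] (p : A →ₐc[R] MonoidAlgebra R (Multiplicative M))
  (K : Type u) [Field K] [Algebra R K]

/-- the base change of the torus -/
lemma map_torHom : (Over.pullback (fK R K)).map (torHom p) ≫ (eK K (Iso.refl (SpecOver R A))).hom =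
    (spK (fK R K) (Iso.refl (Grp.mk (Red.DS (Spec (CommRingCat.of R)) M)))).hom.hom.hom ≫
      torHom (pK p K) := by
  have h1 := hp_bc (K := K) (torHom p) (Iso.refl (Grp.mk (Red.DS (Spec (CommRingCat.of R)) M)))
    (Iso.refl (SpecOver R A)) p (torHom_hp p) _ (𝟙 _)
  rw [Category.id_comp, Category.id_comp] at h1
  rw [h1]
  exact (comp_torHom (pK p K) _).symm

/-- the points of the torus -/
lemma ptsSub_torHom : RG.BrPts.ptsSub (torHom (pK p K)) = (RG.Pt.map (pK p K)).range :=
  RG.BrPts.ptsSub_eq_range _ (pK p K) (asIso (dsTo K M)) rfl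

lemma mem_range_iff {g : RG.Pt K (K ⊗[R] A)} : g ∈ (RG.Pt.map (pK p K)).range ↔
    ∃ t : TPt M K, g = torPt (pK p K) t := by
  constructor
  · rintro ⟨x, rfl⟩
    let f : MonoidAlgebra K (Multiplicative M) →ₐ[K] K := x.ofConv
    let χ : Multiplicative M →* Kˣ :=
      ((f : MonoidAlgebra K (Multiplicative M) →* K).comp (MonoidAlgebra.of K _)).toHomUnits
    have hx : f = evT K χ := by
      apply algHom_ext_single
      intro m
      rw [evT_single, one_smul]
      rfl
    refine ⟨χ, ?_⟩
    apply WithConv.ofConv_injective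
    refine AlgHom.ext fun a => ?_
    exact DFunLike.congr_fun hx (pK p K a)
  · rintro ⟨t, rfl⟩
    exact ⟨toConv (evT K t), rfl⟩

/-- tori are commutative -/
lemma comm_of_isTorusSub {K : Type u} [Field K] {A : Type u} [CommRing A] [HopfAlgebra K A]
    {T : Subgroup (RG.Pt K A)} (hT : RG.IsTorusSub T) {x y : RG.Pt K A} (hx : x ∈ T)
    (hy : y ∈ T) : x * y = y * x := by
  obtain ⟨n, π, -, rfl⟩ := hT
  obtain ⟨x, rfl⟩ := hx
  obtain ⟨y, rfl⟩ := hy
  rw [← map_mul, ← map_mul]
  congr 1
  apply WithConv.ofConv_injective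
  apply algHom_ext_single
  intro m
  change (x * y) (MonoidAlgebra.single m 1) = (y * x) (MonoidAlgebra.single m 1)
  rw [MonoidAlgebra.convMul_algHom_single_one, MonoidAlgebra.convMul_algHom_single_one, mul_comm]

/-- transport of absolute maximality -/
lemma isAbsMax_of_iso {K : Type u} [Field K] {T T₁ G G₁ : Over (Spec (CommRingCat.of K))}
    [GrpObj T] [GrpObj T₁] [GrpObj G] [GrpObj G₁] (i : T ⟶ G) (i₁ : T₁ ⟶ G₁) [IsMonHom i] [Mono i]
    (s : Grp.mk T ≅ Grp.mk T₁) (e : G ≅ G₁) (hc : i ≫ e.hom = s.hom.hom.hom ≫ i₁)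
    (he : IsMonHom e.hom) (hT : Red.IsTorus T) (h : RG.BrMax.IsAbsMax i₁) :
    RG.BrMax.IsAbsMax i := by
  refine ⟨inferInstance, inferInstance, hT, fun T' _ j _ _ f hT' hf => ?_⟩
  have hs1 : s.inv.hom.hom ≫ s.hom.hom.hom = 𝟙 _ := congrArg (fun f => f.hom.hom) s.inv_hom_id
  have hs2 : s.hom.hom.hom ≫ s.inv.hom.hom = 𝟙 _ := congrArg (fun f => f.hom.hom) s.hom_inv_id
  have h3 : IsIso (s.inv.hom.hom ≫ f) := by
    refine h.2.2.2 T' (j ≫ e.hom) (s.inv.hom.hom ≫ f) hT' ?_
    rw [Category.assoc, ← Category.assoc f, hf, hc, ← Category.assoc, hs1, Category.id_comp]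
  have h4 : IsIso s.inv.hom.hom := ⟨s.hom.hom.hom, hs1, hs2⟩
  exact IsIso.of_isIso_comp_left s.inv.hom.hom f

instance : IsMonHom (eK K (Iso.refl (SpecOver R A))).hom := by
  have h1 : IsMonHom (Iso.refl (SpecOver R A)).hom := inferInstanceAs (IsMonHom (𝟙 (SpecOver R A)))
  infer_instance

end fib

section main

variable {idx M : Type} [Fintype idx] [AddCommGroup M] [Module.Free ℤ M]
    [Module.Finite ℤ M] {P : RootPairing idx ℤ M (Module.Dual ℤ M)} {b : P.Base}
    {R A : Type u} [CommRing R] [CommRing A] [HopfAlgebra R A] [PtGrp R A] (E : PinCell P b R A)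
    (h : Compat R A)

/-- the restriction to the torus of a pinned group -/
noncomputable def piE : A →ₐc[R] MonoidAlgebra R (Multiplicative M) := piB h E.toDatum

lemma piE_surjective : Function.Surjective (piE E h) := piB_surjective h E.toDatum

lemma torPt_piE {B : Type u} [CommRing B] [Algebra R B] (t : TPt M B) :
    torPt (piE E h) t = ptConv h B (E.i B t) := torPt_piB h E.toDatum t

lemma resE_torPt_piE {K : Type u} [Field K] [Algebra R K] (t : TPt M K) :
    resE h K (torPt (pK (piE E h) K) t) = E.i K t := resE_torPt h E.toDatum t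

section geom

variable (K : Type u) [Field K] [IsAlgClosed K] [Algebra R K]

include E h

/-- **The geometric fibres are reductive.** -/
theorem isReductiveOver : Red.IsReductiveOver K (Red.bc (fK R K) (SpecOver R A)) := by
  have hfp := E.fp
  have hdom := E.domain K
  have h1 : Red.IsReductiveOver K (SpecOver K (K ⊗[R] A)) :=
    RG.BrRed2.isReductiveOver_iff.2 ⟨hdom, isRedPt E h K⟩
  have hi : IsMonHom (bsIso R K A).symm.hom := inferInstanceAs (IsMonHom (bsIso R K A).inv)
  exact RG.BrRed2.isReductiveOver_of_iso (bsIso R K A).symm h1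

/-- The torus is maximal on geometric fibres, in terms of points. -/
theorem isMaxTorusSub : RG.IsMaxTorusSub
    (RG.BrPts.ptsSub (torHom (pK (piE E h) K))) := by
  have hfp := E.fp
  have hs : Function.Surjective (pK (piE E h) K) :=
    pK_surjective (piE_surjective E h)
  have hm := mono_torHom _ hs
  refine ⟨RG.BrTorus.isTorusSub_ptsSub _ (Trans894.isTorus_DS _ M), fun T' hT' hle =>
    le_antisymm (fun g hg => ?_) hle⟩
  rw [ptsSub_torHom] at hle ⊢
  rw [mem_range_iff]
  obtain ⟨t, ht⟩ := exists_eq_i_of_comm E (K := K) (g := resE h K g) (by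
    intro τ
    have h1 : torPt (pK (piE E h) K) τ ∈ T' := hle ((mem_range_iff _ _).2 ⟨τ, rfl⟩)
    have h2 := congrArg (resE h K) (comm_of_isTorusSub hT' hg h1)
    rw [map_mul, map_mul, resE_torPt_piE] at h2
    exact h2)
  refine ⟨t, (resE h K).injective ?_⟩
  rw [ht]
  exact (resE_torPt_piE E h t).symm

/-- **The torus is maximal on geometric fibres.** -/
theorem isAbsMax : RG.BrMax.IsAbsMax
    ((Over.pullback (fK R K)).map (torHom (piE E h))) := by
  have hfp := E.fp
  have hs := piE_surjective E h
  have hm := mono_torHom _ hs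
  have hm' := mono_torHom _ (pK_surjective (K := K) hs)
  have h1 : RG.BrMax.IsAbsMax (torHom (pK (piE E h) K)) :=
    ⟨inferInstance, inferInstance, Trans894.isTorus_DS _ M,
      (RG.BrTorus.isMaxTorusSub_iff _ (Trans894.isTorus_DS _ M)).1 (isMaxTorusSub E h K)⟩
  exact isAbsMax_of_iso _ _ (spK (fK R K) (Iso.refl (Grp.mk (Red.DS (Spec (CommRingCat.of R)) M))))
    (eK K (Iso.refl (SpecOver R A))) (map_torHom (piE E h) K) inferInstance
    (TorusBc.isTorus_bc _ (Trans894.isTorus_DS _ M)) h1

end geom

include E h in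
/-- **A pinned group is reductive.** -/
theorem isReductive : Red.IsReductive (SpecOver R A) := by
  have hsm := E.smooth
  refine ⟨inferInstance, ?_, fun s => ?_⟩
  · have h1 : RingHom.Smooth (algebraMap R A) := (RingHom.smooth_algebraMap).2 hsm
    exact (HasRingHomProperty.Spec_iff (P := @Smooth)).2 h1
  · obtain ⟨_, hs⟩ := exists_algebra_geomPt s
    have key : ∀ (g : Spec (CommRingCat.of (AlgebraicClosure
        ((Spec (CommRingCat.of R)).residueField s))) ⟶ Spec (CommRingCat.of R)), g = fK R _ →
        Red.IsReductiveOver _ (Red.bc g (SpecOver R A)) := by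
      rintro g rfl
      exact isReductiveOver E h _
    exact key _ hs

/-- **The torus of a pinned group is a maximal torus.** -/
theorem isMaximalTorus : Red.IsMaximalTorus (torHom (piE E h)) := by
  have hm := mono_torHom _ (piE_surjective E h)
  refine ⟨inferInstance, hm, Trans894.isTorus_DS _ M, fun s T' _ j _ _ f hT' hf => ?_⟩
  obtain ⟨_, hs⟩ := exists_algebra_geomPt s
  have key : ∀ (g : Spec (CommRingCat.of (AlgebraicClosure
      ((Spec (CommRingCat.of R)).residueField s))) ⟶ Spec (CommRingCat.of R)), g = fK R _ →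
      ∀ (T' : Over (Spec (CommRingCat.of (AlgebraicClosure
        ((Spec (CommRingCat.of R)).residueField s))))) [GrpObj T'] (j : T' ⟶ Red.bc g (SpecOver R A))
        [IsMonHom j] [Mono j] (f : Red.bc g (Red.DS (Spec (CommRingCat.of R)) M) ⟶ T'),
        Red.IsTorus T' → f ≫ j = (Over.pullback g).map (torHom (piE E h)) → IsIso f := by
    rintro g rfl T' _ j _ _ f hT' hf
    exact (isAbsMax E h _).2.2.2 T' j f hT' hf
  exact key _ hs T' j f hT' hf

end main

end Groth.Agent.RedSub.H368.RedSch
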