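import Groth.Agent.RedSub.H368.RedSch
import Groth.Agent.RedSub.H368.Rank
import Groth.Agent.Sga3B.SplitAssemble
import Groth.Agent.RedSub.H638.WeylBase

/-!
# The splitting of a pinned group

For `E : PinCell P b R A`, `A` a Hopf algebra compatible with the group structure on points,
`splitRed E h : Red.SplitRed (SpecOver R A)` and `pinning E h : Red.Pinning (SpecOver R A)` with
root datum `P`, base `b`, torus `D_S(M)` and root homomorphisms those of `E`.
-/

set_option autoImplicit false
set_option linter.unusedSectionVars false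
universe u

open CategoryTheory MonoidalCategory CartesianMonoidalCategory MonObj GrpObj AlgebraicGeometry Limits
open TensorProduct WithConv Polynomial

namespace Groth.Agent.RedSub.H368.Split

open Groth.Agent.Sga3B Groth.Agent.Sga3B.Cell
open Groth.Agent.RedSub.H638.WeylBase

/-! ### reflection points -/

section refl

variable {idx M : Type} [Fintype idx] [AddCommGroup M] [Module.Free ℤ M]
    [Module.Finite ℤ M] {P : RootPairing idx ℤ M (Module.Dual ℤ M)} {b : P.Base}

/-- precomposition with the reflection in the root `c` -/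
noncomputable def sT (P : RootPairing idx ℤ M (Module.Dual ℤ M)) (c : idx) {B : Type u}
    [CommRing B] (t : TPt M B) : TPt M B :=
  t.comp (AddMonoidHom.toMultiplicative (P.reflection c).toLinearMap.toAddMonoidHom)

lemma ch_sT (c : idx) {B : Type u} [CommRing B] (t : TPt M B) (m : M) :
    TPt.ch m (sT P c t) = TPt.ch (P.reflection c m) t := rfl

variable {R A : Type u} [CommRing R] [CommRing A] [Algebra R A] [PtGrp R A] (E : PinCell P b R A)

/-- `n` acts on the torus through the reflection in the root `c` -/
def Real (c : idx) (n : Pt R A R) : Prop :=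
  ∀ (B : Type u) [CommRing B] [Algebra R B] (t : TPt M B),
    Pt.map (Algebra.ofId R B) n * E.i B t * (Pt.map (Algebra.ofId R B) n)⁻¹ = E.i B (sT P c t)

include E in
lemma sT_eq (a : idx) {B : Type u} [CommRing B] [Algebra R B] (t : TPt M B) :
    t * (TPt.cow (P.coroot a) (t (Multiplicative.ofAdd (P.root a))))⁻¹ = sT P a t := by
  apply TPt.ext_ch
  intro m
  have h1 : P.reflection a m = m - (P.coroot a m) • P.root a := by
    rw [RootPairing.reflection_apply]
    congr 2
    change P.toLinearMap m (P.coroot a) = _
    rw [E.pairing_eq]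
    rfl
  rw [ch_sT, h1]
  change ((t (Multiplicative.ofAdd m) * ((t (Multiplicative.ofAdd (P.root a))) ^
    (P.coroot a m))⁻¹ : Bˣ) : B) = ((t (Multiplicative.ofAdd (m - P.coroot a m • P.root a)) : Bˣ) : B)
  congr 1
  rw [ofAdd_sub, ofAdd_zsmul, _root_.map_div, map_zpow, div_eq_mul_inv]

lemma real_simple {a : idx} (ha : a ∈ b.support) : Real E a (E.nn a R) := by
  intro B _ _ t
  rw [E.nn_nat, nn_conj_i E ha, sT_eq E]

lemma real_conj {a c : idx} (ha : a ∈ b.support) {n : Pt R A R} (hn : Real E c n) :
    Real E (P.reflectionPerm a c) (E.nn a R * n * (E.nn a R)⁻¹) := by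
  intro B _ _ t
  rw [Pt.map_mul, Pt.map_mul, Pt.map_inv, E.nn_nat]
  have h1 : (E.nn a B)⁻¹ * E.i B t * E.nn a B = E.i B (sT P a t) := by
    rw [nn_inv_conj_i E ha, sT_eq E]
  calc E.nn a B * Pt.map (Algebra.ofId R B) n * (E.nn a B)⁻¹ * E.i B t *
        (E.nn a B * Pt.map (Algebra.ofId R B) n * (E.nn a B)⁻¹)⁻¹
      = E.nn a B * (Pt.map (Algebra.ofId R B) n * ((E.nn a B)⁻¹ * E.i B t * E.nn a B) *
        (Pt.map (Algebra.ofId R B) n)⁻¹) * (E.nn a B)⁻¹ := by group
    _ = E.i B (sT P a (sT P c (sT P a t))) := by
        rw [h1, hn, nn_conj_i E ha, sT_eq E]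
    _ = _ := by
        congr 1
        apply TPt.ext_ch
        intro m
        rw [ch_sT, ch_sT, ch_sT, ch_sT, RootPairing.reflection_reflectionPerm]
        rfl

/-- **Reflection points for all the roots.** -/
theorem exists_real (c : idx) : ∃ n : Pt R A R, Real E c n := by
  obtain ⟨l, a, ha, hl, rfl⟩ := PinComb.exists_word b c
  induction l with
  | nil => exact ⟨_, real_simple E ha⟩
  | cons d l ih =>
    obtain ⟨n, hn⟩ := ih (fun c hc => hl c (List.mem_cons_of_mem _ hc))
    exact ⟨_, real_conj E (hl d List.mem_cons_self) hn⟩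

end refl

/-! ### the splitting -/

section split

open Groth.Agent.Books.AffBridge Groth.Agent.Books.DynBasic DSPts GaPts AffPts DSAff RootHomDict
open Groth.Agent.Sga3B.SplitAssemble Groth.Agent.Sga3B.RootOrb
open Groth.Agent.Sga3B.BcSpec144
open Groth.Agent.RedSub.H368.HopfPts Groth.Agent.RedSub.H368.RedSch

variable {idx M : Type} [Fintype idx] [AddCommGroup M] [Module.Free ℤ M]
    [Module.Finite ℤ M] {P : RootPairing idx ℤ M (Module.Dual ℤ M)} {b : P.Base}
    {R A : Type u} [CommRing R] [CommRing A] [HopfAlgebra R A] [PtGrp R A] (E : PinCell P b R A)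
    (h : Compat R A)

/-- the algebra map of a root homomorphism -/
noncomputable def rt (a : idx) : A →ₐ[R] R[X] := (E.uu a R[X] X).hom

lemma rt_surjective (a : idx) : Function.Surjective (rt E a) := E.uu_surj a

include h in
lemma aeval_rt (a : idx) {B : Type u} [CommRing B] [Algebra R B] (x : B) :
    toConv ((Polynomial.aeval (R := R) x).comp (rt E a)) = ptConv h B (E.uu a B x) := by
  have h1 := E.uu_nat a (Polynomial.aeval x : R[X] →ₐ[R] B) X
  rw [Polynomial.aeval_X] at h1
  rw [← h1]
  rfl

include h in
lemma rt_add (a : idx) (B : Type u) [CommRing B] [Algebra R B] (x y : B) :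
    toConv ((Polynomial.aeval (R := R) (x + y)).comp (rt E a)) =
      toConv ((Polynomial.aeval (R := R) x).comp (rt E a)) *
        toConv ((Polynomial.aeval (R := R) y).comp (rt E a)) := by
  rw [aeval_rt E h, aeval_rt E h, aeval_rt E h, E.uu_add, map_mul]

lemma rt_conj (a : idx) (B : Type u) [CommRing B] [Algebra R B] (χ : Multiplicative M →* B)
    (x : B) :
    toConv ((MonoidAlgebra.lift R B (Multiplicative M) χ).comp
        (piE E h : A →ₐ[R] MonoidAlgebra R (Multiplicative M))) *
      toConv ((Polynomial.aeval (R := R) x).comp (rt E a)) *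
      (toConv ((MonoidAlgebra.lift R B (Multiplicative M) χ).comp
        (piE E h : A →ₐ[R] MonoidAlgebra R (Multiplicative M))))⁻¹ =
    toConv ((Polynomial.aeval (R := R) (χ (Multiplicative.ofAdd (P.root a)) * x)).comp
      (rt E a)) := by
  have h1 := chAlg_comp_eq (piE E h) χ
  rw [h1, aeval_rt E h, aeval_rt E h, torPt_piE, ← map_mul, ← map_inv, ← map_mul, E.rel]
  rfl

include E in
/-- **The dimension of the geometric fibres of a pinned group.** -/
theorem topologicalKrullDim_geomFibre (s : ↥(Spec (CommRingCat.of R))) :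
    topologicalKrullDim ↥(Red.geomFibre s (SpecOver R A)).left =
      ((Module.finrank ℤ M + Fintype.card idx : ℕ) : WithBot ℕ∞) := by
  obtain ⟨_, hs⟩ := exists_algebra_geomPt s
  have key : ∀ (g : Spec (CommRingCat.of (AlgebraicClosure
      ((Spec (CommRingCat.of R)).residueField s))) ⟶ Spec (CommRingCat.of R)), g = fK R _ →
      topologicalKrullDim ↥(Red.bc g (SpecOver R A)).left =
        ((Module.finrank ℤ M + Fintype.card idx : ℕ) : WithBot ℕ∞) := by
    rintro g rfl
    rw [← Rank.ringKrullDim_pin E (AlgebraicClosure ((Spec (CommRingCat.of R)).residueField s)),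
      ← PrimeSpectrum.topologicalKrullDim_eq_ringKrullDim]
    let e2 : (Red.bc (fK R (AlgebraicClosure ((Spec (CommRingCat.of R)).residueField s)))
        (SpecOver R A)).left ≅ Spec (CommRingCat.of
          (AlgebraicClosure ((Spec (CommRingCat.of R)).residueField s) ⊗[R] A)) :=
      (Over.forget _).mapIso (bsIso R _ A)
    exact IsHomeomorph.topologicalKrullDim_eq _ (Scheme.homeoOfIso e2).isHomeomorph
  exact key _ hs

/-- **The splitting of a pinned group.** -/
noncomputable def splitRed : Red.SplitRed (SpecOver R A) where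
  T := Red.DS (Spec (CommRingCat.of R)) M
  i := torHom (piE E h)
  M := M
  idx := idx
  P := P
  pairing_eq := E.pairing_eq
  u := fun a => uOf (Iso.refl _) (rt E a)
  reductive := isReductive E h
  maximalTorus := isMaximalTorus E h
  split := Iso.refl _
  rootHom := fun a => by
    have he : IsMonHom (Iso.refl (SpecOver R A)).hom := inferInstanceAs (IsMonHom (𝟙 _))
    exact isRootHom_uOf (torHom (piE E h)) (𝟙 _) (Iso.refl (SpecOver R A))
      (piE E h : A →ₐ[R] MonoidAlgebra R (Multiplicative M)) (torHom_hp (piE E h))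
      (P.root a) (rt E a) (rt_surjective E a) (rt_add E h a) (rt_conj E h a)
  refl := fun a => by
    have he : IsMonHom (Iso.refl (SpecOver R A)).hom := inferInstanceAs (IsMonHom (𝟙 _))
    obtain ⟨n, hn⟩ := exists_real E a
    refine ⟨cstPt (Iso.refl (SpecOver R A)) (ptConv h R n), ?_⟩
    exact refl_of_pt (torHom (piE E h)) (Iso.refl _) (Iso.refl (SpecOver R A)) (piE E h)
      (torHom_hp (piE E h)) (P.reflection a).toLinearMap.toAddMonoidHom (ptConv h R n) (by
        intro C _ _ t
        have h1 := congrArg (ptConv h C) (hn C t)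
        rw [map_mul, map_mul, map_inv, ← torPt_piE E h, ← torPt_piE E h] at h1
        exact h1)
  dim_fibre := topologicalKrullDim_geomFibre E

/-- **The pinning of a pinned group.** -/
noncomputable def pinning : Red.Pinning (SpecOver R A) where
  toSplitRed := splitRed E h
  base := b

/-- **A pinned group is split reductive of type `P`.** -/
theorem isSplitOfType (E : PinCell P b R A) (h : Compat R A) :
    Red.IsSplitOfType P (SpecOver R A) :=
  ⟨splitRed E h, ⟨RootPairing.Equiv.id P⟩⟩

end split

end Groth.Agent.RedSub.H368.Split
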